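/-
The standard normaliser of the group of order 125 is unitary when the frobenius inverts the fifth roots of unity.
-/
import Cfsg.Agent.Lib.MaxSub.HeisFive.Ctx
import Cfsg.Agent.Lib.UnitaryTransvection
import Cfsg.Prelude.Def_GeometricClasses

set_option autoImplicit false
set_option linter.unusedSectionVars false
set_option linter.style.haveILetI false
set_option maxHeartbeats 800000

namespace CfsgLib.MaxSub.HeisFiveU

open Matrix Cfsg CfsgLib.UnitaryTransvection
open CfsgLib.MaxSub.HeisFive (Root Xm Ym Jm Wm Fz Fm Jg)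

variable {F : Type*} [Field F] [Fintype F] {q : ℕ} {hF : Fintype.card F = q ^ 2}

local notation "V5" => Fin 5 → F
local notation "hh" => Cfsg.hermForm 5 F q
local notation "σ" => frob hF
local notation "M5" => Matrix (Fin 5) (Fin 5) F

variable (hF)
include hF

theorem h_eq_dot (u v : V5) : hh u v = u ⬝ᵥ (fun i => σ (v i)) :=
  Finset.sum_congr rfl fun i _ => by simp only [frob_apply]

theorem h_gram (M : M5) (u v : V5) :
    hh (M *ᵥ u) (M *ᵥ v) = u ⬝ᵥ ((M.transpose * M.map σ) *ᵥ fun i => σ (v i)) := by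
  have hm : (fun i => σ ((M *ᵥ v) i)) = M.map σ *ᵥ fun i => σ (v i) := funext fun i =>
    RingHom.map_mulVec σ M v i
  rw [h_eq_dot hF, hm, ← Matrix.mulVec_mulVec, Matrix.dotProduct_mulVec u, Matrix.vecMul_transpose]

theorem iso_of_gram {M : M5} (hM : M.transpose * M.map σ = 1) (u v : V5) : hh (M *ᵥ u) (M *ᵥ v) = hh u v := by
  rw [h_gram hF, hM, Matrix.one_mulVec, h_eq_dot hF]

theorem gram_of_iso {M : M5} (hM : ∀ u v : V5, hh (M *ᵥ u) (M *ᵥ v) = hh u v) : M.transpose * M.map σ = 1 := by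
  ext i j
  have e := hM (Pi.single i 1) (Pi.single j 1)
  have hs : (fun k => σ ((Pi.single j 1 : V5) k)) = Pi.single j 1 := funext fun k => by
    by_cases hk : k = j
    · subst hk; rw [Pi.single_eq_same, map_one]
    · rw [Pi.single_eq_of_ne hk, map_zero]
  rw [h_gram hF, h_eq_dot hF, hs, Matrix.mulVec_single_one, single_dotProduct, single_dotProduct, one_mul, one_mul,
    Matrix.col_apply, Pi.single_apply] at e
  rw [e, Matrix.one_apply]

theorem mem_GU_iff (g : GL (Fin 5) F) :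
    g ∈ Cfsg.GU 5 F q ↔ (g : M5).transpose * (g : M5).map σ = 1 :=
  ⟨fun h => gram_of_iso hF h, fun h u v => iso_of_gram hF h u v⟩

variable (hq : q % 5 = 4) {ω : F} (h : Root ω)
include hq h

theorem frob_root : σ ω = ω ^ 4 := by rw [frob_apply, h.pow_mod, hq]

theorem root_frob_mul : ω * σ ω = 1 := by rw [frob_root hF hq h, ← pow_succ', h.pow_five]

theorem frob_gauss : σ (ω - ω ^ 2 - ω ^ 3 + ω ^ 4) = ω - ω ^ 2 - ω ^ 3 + ω ^ 4 := by
  simp only [map_add, map_sub, map_pow, frob_root hF hq h]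
  have h5 := h.pow_five
  grind

theorem gram_Xm : (Xm ω : M5).transpose * (Xm ω : M5).map σ = 1 := by
  rw [Xm, diagonal_transpose, diagonal_map (map_zero σ), diagonal_mul_diagonal, ← diagonal_one]
  refine congrArg diagonal (funext fun i => ?_)
  show ω ^ (i : ℕ) * σ (ω ^ (i : ℕ)) = 1
  rw [map_pow, ← mul_pow, root_frob_mul hF hq h, one_pow]

theorem gram_Wm : (Wm ω : M5).transpose * (Wm ω : M5).map σ = 1 := by
  rw [Wm, diagonal_transpose, diagonal_map (map_zero σ), diagonal_mul_diagonal, ← diagonal_one]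
  refine congrArg diagonal (funext fun i => ?_)
  show ω ^ ((i : ℕ) ^ 2) * σ (ω ^ ((i : ℕ) ^ 2)) = 1
  rw [map_pow, ← mul_pow, root_frob_mul hF hq h, one_pow]

theorem gram_Ym : (Ym : M5).transpose * (Ym : M5).map σ = 1 := by
  ext i j
  rw [Matrix.mul_apply, Finset.sum_eq_single (i + 1)]
  · by_cases hij : i = j
    · subst hij; simp [Ym]
    · simp [Ym, hij]
  · intro b _ hb
    simp [Ym, hb]
  · simp

theorem gram_Fz : (Fz ω : M5).transpose * (Fz ω : M5).map σ = 1 := by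
  ext i j
  rw [Matrix.mul_apply]
  simp only [Fz, Matrix.transpose_apply, Matrix.map_apply, Matrix.smul_apply, of_apply, smul_eq_mul, map_mul, map_inv₀,
    frob_gauss hF hq h, map_pow, frob_root hF hq h]
  have e : ∀ k : Fin 5, (ω - ω ^ 2 - ω ^ 3 + ω ^ 4)⁻¹ * ω ^ ((k : ℕ) * (i : ℕ)) *
      ((ω - ω ^ 2 - ω ^ 3 + ω ^ 4)⁻¹ * (ω ^ 4) ^ ((k : ℕ) * (j : ℕ))) =
      ((ω - ω ^ 2 - ω ^ 3 + ω ^ 4) ^ 2)⁻¹ * ω ^ (((i : ℕ) + 4 * j) * (k : ℕ)) := fun k => by
    rw [← pow_mul, ← inv_pow]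
    rw [show ((i : ℕ) + 4 * j) * (k : ℕ) = (k : ℕ) * i + 4 * ((k : ℕ) * j) by ring, pow_add]
    ring
  simp only [e]
  rw [← Finset.mul_sum, h.gauss, h.sum_pow, Matrix.one_apply]
  have : (5 ∣ (i : ℕ) + 4 * (j : ℕ)) ↔ i = j :=
    (by decide : ∀ i j : Fin 5, (5 ∣ (i : ℕ) + 4 * (j : ℕ)) ↔ i = j) i j
  simp only [this]
  split_ifs <;> simp [h.five_ne]

theorem gram_Fm : (Fm ω : M5).transpose * (Fm ω : M5).map σ = 1 := by
  have hd := HeisFive.Fz_det_sq h
  have hs : σ (Fz ω : M5).det = (Fz ω : M5).det := by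
    rcases mul_self_eq_one_iff.1 hd with e | e <;> rw [e] <;> simp
  rw [Fm, Matrix.transpose_smul, Matrix.map_smul' σ _ _ (map_mul σ), hs, Matrix.smul_mul, Matrix.mul_smul, smul_smul, hd,
    one_smul]
  exact gram_Fz hF hq h

omit hq h in
theorem gram_mul {A B : M5} (hA : A.transpose * A.map σ = 1) (hB : B.transpose * B.map σ = 1) :
    (A * B).transpose * (A * B).map σ = 1 := by
  rw [Matrix.transpose_mul, Matrix.map_mul, Matrix.mul_assoc, ← Matrix.mul_assoc A.transpose, hA, Matrix.one_mul, hB]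

end CfsgLib.MaxSub.HeisFiveU
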