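/-
The transvections centred in the negated plane give the special unitary group with the standard generators.
-/
import Cfsg.Agent.Lib.MaxSub.SubspaceMaximalUnitary
import Cfsg.Agent.Lib.MaxSub.HeisFiveU.Basic

set_option autoImplicit false
set_option linter.unusedSectionVars false
set_option linter.style.haveILetI false
set_option maxHeartbeats 800000

namespace CfsgLib.MaxSub.HeisFiveU

open Matrix Cfsg Cfsg.Geo CfsgLib.UnitaryTransvection
open CfsgLib.MaxSub.HeisFive (Root Xm Ym Ep En Lp Ln Ep_Lp_add)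

variable {F : Type*} [Field F] [Fintype F] {q : ℕ} {hF : Fintype.card F = q ^ 2}

local notation "V5" => Fin 5 → F
local notation "hh" => Cfsg.hermForm 5 F q
local notation "σ" => frob hF
local notation "M5" => Matrix (Fin 5) (Fin 5) F
local notation "G" => Cfsg.GU 5 F q ⊓ specialLinear (Fin 5) F
local notation "eN" => Matrix.mulVec (En : Matrix (Fin 5) (Fin 2) F)
local notation "eP" => Matrix.mulVec (Ep : Matrix (Fin 5) (Fin 3) F)

variable {K : Subgroup (GL (Fin 5) F)}

/-- A centre moved by the transvections of another one. -/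
theorem ctr_move {a z : V5} (ha : hh a a = 0) (hA : Ctr hF K a) {c : F}
    (hc : c + σ c = 0) (hz : Ctr hF K z) : Ctr hF K (z + (c * hh z a) • a) := by
  have hd : (Cfsg.unitaryTransvection 5 q a c).det = 1 := by rw [det_tmat, ha, mul_zero, add_zero]
  have hgG : sg _ hd ∈ G := sg_mem (tmat_isometry hF
    (show Good hF a c by rw [Good, ha, mul_zero, add_zero, hc])) _
  have := hz.conj (hA (sg _ hd) c hc rfl) hgG
  rwa [show ((sg _ hd : GL (Fin 5) F) : M5) = Cfsg.unitaryTransvection 5 q a c from rfl, tmat_mulVec] at this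

/-- The vectors of a given non-zero norm of a line are linked by its transvections. -/
theorem ctr_norm {a a' z : V5} (ha : hh a a = 0) (ha' : hh a' a' = 0) (haa : hh a a' = 1)
    (hA : Ctr hF K a) (hA' : Ctr hF K a') (hza : hh z a = 0) (hza' : hh z a' = 0) {x y x' y' : F}
    (hν : x * σ y + y * σ x ≠ 0) (heq : x' * σ y' + y' * σ x' = x * σ y + y * σ x)
    (hS : Ctr hF K (z + (x • a + y • a'))) : Ctr hF K (z + (x' • a + y' • a')) := by
  have hba : hh a' a = 1 := by rw [← h_swap hF, haa, map_one]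
  -- a change of the first coordinate
  have hA1 : ∀ x y x', y ≠ 0 → x' * σ y + y * σ x' = x * σ y + y * σ x →
      Ctr hF K (z + (x • a + y • a')) → Ctr hF K (z + (x' • a + y • a')) := by
    intro x y x' hy he hS
    have hc : (x' - x) / y + σ ((x' - x) / y) = 0 := by
      rw [map_div₀, map_sub]
      have : σ y ≠ 0 := (map_ne_zero _).2 hy
      field_simp
      linear_combination he
    have h1 := ctr_move ha hA hc hS
    have e : hh (z + (x • a + y • a')) a = y := by
      rw [h_add_left, h_add_left, h_smul_left, h_smul_left, hza, ha, hba]; ring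
    rw [e, div_mul_cancel₀ _ hy] at h1
    convert h1 using 1
    module
  have hA2 : ∀ x y y', x ≠ 0 → x * σ y' + y' * σ x = x * σ y + y * σ x →
      Ctr hF K (z + (x • a + y • a')) → Ctr hF K (z + (x • a + y' • a')) := by
    intro x y y' hx he hS
    have hc : (y' - y) / x + σ ((y' - y) / x) = 0 := by
      rw [map_div₀, map_sub]
      have : σ x ≠ 0 := (map_ne_zero _).2 hx
      field_simp
      linear_combination he
    have h1 := ctr_move ha' hA' hc hS
    have e : hh (z + (x • a + y • a')) a' = x := by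
      rw [h_add_left, h_add_left, h_smul_left, h_smul_left, hza', haa, ha']; ring
    rw [e, div_mul_cancel₀ _ hx] at h1
    convert h1 using 1
    module
  set ν := x * σ y + y * σ x with hνdef
  have hσν : σ ν = ν := by rw [hνdef, map_add, map_mul, map_mul, frob_frob hF, frob_frob hF]; ring
  -- between independent second coordinates
  have key : ∀ x y x' y', x * σ y + y * σ x = ν → x' * σ y' + y' * σ x' = ν →
      y' * σ y - y * σ y' ≠ 0 → Ctr hF K (z + (x • a + y • a')) →
      Ctr hF K (z + (x' • a + y' • a')) := by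
    intro x y x' y' e e' hD hS
    set D := y' * σ y - y * σ y' with hDdef
    set x1 := ν * (y' - y) / D with hx1
    have hσD : σ D = -D := by rw [hDdef, map_sub, map_mul, map_mul, frob_frob hF, frob_frob hF]; ring
    have hy : y ≠ 0 := fun h0 => hD (by rw [hDdef, h0, map_zero]; ring)
    have hy' : y' ≠ 0 := fun h0 => hD (by rw [hDdef, h0, map_zero]; ring)
    have e1 : x1 * σ y + y * σ x1 = ν := by
      rw [hx1, map_div₀, map_mul, map_sub, hσν, hσD]
      field_simp
      rw [hDdef]; ring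
    have e2 : x1 * σ y' + y' * σ x1 = ν := by
      rw [hx1, map_div₀, map_mul, map_sub, hσν, hσD]
      field_simp
      rw [hDdef]; ring
    have hx1 : x1 ≠ 0 := fun h0 => hν (by rw [← e1, h0, map_zero]; ring)
    exact hA1 x1 y' x' hy' (e'.trans e2.symm) (hA2 x1 y y' hx1 (e2.trans e1.symm)
      (hA1 x y x1 hy (e1.trans e.symm) hS))
  by_cases hD : y' * σ y - y * σ y' = 0
  · obtain ⟨t, ht⟩ : ∃ t : F, σ t ≠ t := by
      by_contra hc
      push Not at hc
      exact frob_ne_id hF (RingHom.ext hc)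
    have hy : y ≠ 0 := fun h0 => hν (by rw [hνdef, h0, map_zero]; ring)
    have hy' : y' ≠ 0 := fun h0 => hν (by rw [← heq, h0, map_zero]; ring)
    have hσy : σ y ≠ 0 := (map_ne_zero _).2 hy
    have hσy' : σ y' ≠ 0 := (map_ne_zero _).2 hy'
    have hD1 : (t * y) * σ y - y * σ (t * y) ≠ 0 := by
      rw [map_mul]
      intro h0
      exact ht (mul_right_cancel₀ (mul_ne_zero hy hσy) (by linear_combination -h0))
    have hD2 : y' * σ (t * y) - (t * y) * σ y' ≠ 0 := by
      rw [map_mul]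
      intro h0
      exact ht (mul_right_cancel₀ (mul_ne_zero hy hσy') (by linear_combination h0 - σ t * hD))
    obtain ⟨k, hk⟩ := WittExtension.exists_trace (frob_ne_id hF) (frob_frob hF) (c := ν) hσν
    have hty : σ (t * y) ≠ 0 := by
      rw [Ne, map_eq_zero, mul_eq_zero]
      rintro (h0 | h0)
      · exact ht (by rw [h0, map_zero])
      · exact hy h0
    have e0 : k / σ (t * y) * σ (t * y) + t * y * σ (k / σ (t * y)) = ν := by
      rw [div_mul_cancel₀ _ hty, map_div₀, frob_frob hF, ← hk]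
      have : t * y ≠ 0 := fun h0 => hty (by rw [h0, map_zero])
      have ht0 : t ≠ 0 := (mul_ne_zero_iff.1 this).1
      field_simp
      ring
    exact key _ _ x' y' e0 heq hD2 (key x y _ _ rfl e0 hD1 hS)
  · exact key x y x' y' rfl heq hD hS

/-- Two centres which are not orthogonal give their isotropic sum. -/
theorem ctr_join {w u : V5} (hw : Ctr hF K w) (hu : Ctr hF K u) (hww : hh w w = 0)
    (huu : hh u u = 0) (hs : hh (w + u) (w + u) = 0) (hne : hh u w ≠ 0) : Ctr hF K (w + u) := by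
  rw [h_add_left, h_add_right hF, h_add_right hF, hww, huu] at hs
  have hwu : hh w u = -hh u w := by linear_combination hs
  have hc : (hh u w)⁻¹ + σ (hh u w)⁻¹ = 0 := by
    rw [map_inv₀, h_swap hF, hwu, inv_neg, add_neg_cancel]
  have := ctr_move hww hw hc hu
  rwa [inv_mul_cancel₀ hne, one_smul, add_comm] at this

theorem ctr_zero : Ctr hF K (0 : V5) := by
  intro g c _ hg
  have : g = 1 := Units.ext (Matrix.ext_of_mulVec_single fun i => by
    rw [hg, UnitarySimple.tmat_zero, Units.val_one, Matrix.one_mulVec])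
  rw [this]
  exact one_mem _

section Forms

variable (hF)
include hF

theorem h_En (a a' : Fin 2 → F) : hh (eN a) (eN a') = 2 * (a 0 * σ (a' 0) + a 1 * σ (a' 1)) := by
  rw [h_eq_dot hF]
  simp [dotProduct, Matrix.mulVec, En, Fin.sum_univ_five, Fin.sum_univ_two, neg_mul_neg]
  ring

theorem h_Ep (b b' : Fin 3 → F) :
    hh (eP b) (eP b') = b 0 * σ (b' 0) + 2 * (b 1 * σ (b' 1) + b 2 * σ (b' 2)) := by
  rw [h_eq_dot hF]
  simp [dotProduct, Matrix.mulVec, Ep, Fin.sum_univ_five, Fin.sum_univ_three]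
  ring

theorem h_En_Ep (a : Fin 2 → F) (b : Fin 3 → F) : hh (eN a) (eP b) = 0 := by
  rw [h_eq_dot hF]
  simp [dotProduct, Matrix.mulVec, En, Ep, Fin.sum_univ_five, Fin.sum_univ_three, Fin.sum_univ_two]

theorem h_Ep_En (b : Fin 3 → F) (a : Fin 2 → F) : hh (eP b) (eN a) = 0 := by
  rw [← h_swap hF (eN a) (eP b), h_En_Ep hF, map_zero]

theorem h_sum (a a' : Fin 2 → F) (b b' : Fin 3 → F) :
    hh (eN a + eP b) (eN a' + eP b') = hh (eN a) (eN a') + hh (eP b) (eP b') := by
  rw [h_add_left, h_add_right hF, h_add_right hF, h_En_Ep hF, h_Ep_En hF]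
  ring

end Forms

theorem decomp (h2 : (2 : F) ≠ 0) (v : V5) :
    v = eN ((Ln : Matrix (Fin 2) (Fin 5) F) *ᵥ v) + eP ((Lp : Matrix (Fin 3) (Fin 5) F) *ᵥ v) := by
  show v = (En : Matrix (Fin 5) (Fin 2) F) *ᵥ _ + (Ep : Matrix (Fin 5) (Fin 3) F) *ᵥ _
  rw [Matrix.mulVec_mulVec, Matrix.mulVec_mulVec, ← Matrix.add_mulVec, add_comm, Ep_Lp_add h2, Matrix.one_mulVec]

variable (hF) in
/-- A vector of the fixed space all whose isotropic completions with anisotropic part are centres. -/
def Good3 (K : Subgroup (GL (Fin 5) F)) (b : Fin 3 → F) : Prop :=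
  ∀ a : Fin 2 → F, hh (eN a) (eN a) ≠ 0 → hh (eN a + eP b) (eN a + eP b) = 0 → Ctr hF K (eN a + eP b)

variable (hF) in
/-- Zero or a good anisotropic vector. -/
def Nice3 (K : Subgroup (GL (Fin 5) F)) (b : Fin 3 → F) : Prop :=
  b = 0 ∨ (Good3 hF K b ∧ hh (eP b) (eP b) ≠ 0)

/-- Isotropic vectors of the negated plane are centres. -/
def PlaneCtr (K : Subgroup (GL (Fin 5) F)) (hF : Fintype.card F = q ^ 2) : Prop :=
  ∀ a : Fin 2 → F, hh (eN a) (eN a) = 0 → Ctr hF K (eN a)

theorem nice_smul {b : Fin 3 → F} (hb : Nice3 hF K b) (l : F) : Nice3 hF K (l • b) := by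
  by_cases hl : l = 0
  · exact Or.inl (by rw [hl, zero_smul])
  rcases hb with e | ⟨hb, hn⟩
  · exact Or.inl (by rw [e, smul_zero])
  have hn' : hh (eP (l • b)) (eP (l • b)) = l * σ l * hh (eP b) (eP b) := by
    simp only [Matrix.mulVec_smul, h_smul_left, h_smul_right hF]; ring
  have hl' : l * σ l ≠ 0 := mul_ne_zero hl ((map_ne_zero _).2 hl)
  refine Or.inr ⟨fun a ha hiso => ?_, by rw [hn']; exact mul_ne_zero hl' hn⟩
  have e : eN a + eP (l • b) = l • (eN (l⁻¹ • a) + eP b) := by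
    simp only [Matrix.mulVec_smul, smul_add, smul_smul, mul_inv_cancel₀ hl, one_smul]
  rw [e] at hiso ⊢
  rw [h_smul_left, h_smul_right hF, ← mul_assoc] at hiso
  refine (hb _ ?_ ((mul_eq_zero.1 hiso).resolve_left hl')).smul l
  simp only [Matrix.mulVec_smul, h_smul_left, h_smul_right hF]
  exact mul_ne_zero ((map_ne_zero _).2 (inv_ne_zero hl)) (mul_ne_zero (inv_ne_zero hl) ha)

/-- One completion suffices. -/
theorem good_of_one (h2 : (2 : F) ≠ 0) {t : F} (ht : t * σ t = -1) (hP : PlaneCtr K hF)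
    {a₀ : Fin 2 → F} {b : Fin 3 → F} (h0 : hh (eN a₀) (eN a₀) ≠ 0)
    (hiso : hh (eN a₀ + eP b) (eN a₀ + eP b) = 0) (hS : Ctr hF K (eN a₀ + eP b)) : Good3 hF K b := by
  intro a ha ha'
  have h4 : (4 : F) ≠ 0 := by rw [show (4 : F) = 2 * 2 by norm_num]; exact mul_ne_zero h2 h2
  have ht0 : t ≠ 0 := fun e => by rw [e, zero_mul] at ht; exact one_ne_zero (neg_eq_zero.1 ht.symm)
  set e₁ : Fin 2 → F := ![1, t] with he₁
  set e₂ : Fin 2 → F := ![4⁻¹, -(4⁻¹ * t)] with he₂
  have p1 : hh (eN e₁) (eN e₁) = 0 := by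
    rw [h_En hF]; simp only [e₁, cons_val_zero, cons_val_one, map_one, mul_one]; linear_combination (2 : F) * ht
  have p2 : hh (eN e₂) (eN e₂) = 0 := by
    rw [h_En hF]; simp only [e₂, cons_val_zero, cons_val_one, map_neg, map_mul, map_inv₀, map_ofNat]; linear_combination (2 : F) * (4 : F)⁻¹ * (4 : F)⁻¹ * ht
  have p12 : hh (eN e₁) (eN e₂) = 1 := by
    rw [h_En hF]; simp [e₁, e₂, map_ofNat]
    field_simp
    linear_combination -(2 : F) * ht
  have coord : ∀ c : Fin 2 → F, eN c = ((c 0 + c 1 / t) / 2) • eN e₁ + (2 * (c 0 - c 1 / t)) • eN e₂ := by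
    intro c
    show _ = _ • ((En : Matrix (Fin 5) (Fin 2) F) *ᵥ e₁) + _ • ((En : Matrix (Fin 5) (Fin 2) F) *ᵥ e₂)
    rw [← Matrix.mulVec_smul, ← Matrix.mulVec_smul, ← Matrix.mulVec_add]
    show (En : Matrix (Fin 5) (Fin 2) F) *ᵥ c = _
    congr 1
    funext i
    fin_cases i <;> simp [e₁, e₂] <;> field_simp <;> ring
  have nrm : ∀ x y : F, hh (x • eN e₁ + y • eN e₂) (x • eN e₁ + y • eN e₂) = x * σ y + y * σ x := by
    intro x y
    have p21 : hh (eN e₂) (eN e₁) = 1 := by rw [← h_swap hF (eN e₁) (eN e₂), p12, map_one]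
    simp only [h_add_left, h_add_right hF, h_smul_left, h_smul_right hF, p1, p2, p12, p21]
    ring
  rw [coord a, add_comm]
  rw [coord a₀, add_comm] at hS
  refine ctr_norm p1 p2 p12 (hP _ p1) (hP _ p2) (h_Ep_En hF _ _) (h_Ep_En hF _ _) ?_ ?_ hS
  · rw [← nrm, ← coord]; exact h0
  · rw [← nrm, ← nrm, ← coord, ← coord]
    rw [h_sum hF] at ha' hiso
    linear_combination ha' - hiso

/-- Good anisotropic vectors are closed under anisotropic sums. -/
theorem good_add (h2 : (2 : F) ≠ 0) {b b' : Fin 3 → F} (hb : Nice3 hF K b) (hb' : Nice3 hF K b')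
    (hs : hh (eP (b + b')) (eP (b + b')) ≠ 0) : Nice3 hF K (b + b') := by
  rcases hb with e | ⟨hb, hn⟩
  · rw [e, zero_add]; exact hb'
  rcases hb' with e | ⟨hb', hn'⟩
  · rw [e, add_zero]; exact Or.inr ⟨hb, hn⟩
  refine Or.inr ⟨fun a ha hiso => ?_, hs⟩
  set ν := hh (eN a) (eN a) with hν
  set N1 := hh (eP b) (eP b) with hN1
  set N2 := hh (eP b') (eP b') with hN2
  have hσν : σ ν = ν := h_swap hF _ _
  have hσ1 : σ N1 = N1 := h_swap hF _ _
  have hσ2 : σ N2 = N2 := h_swap hF _ _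
  obtain ⟨sk, hsk0, hsk⟩ := exists_skew hF
  obtain ⟨k, hk⟩ := WittExtension.exists_trace (frob_ne_id hF) (frob_frob hF) (c := (-N1 + ν + N2) / ν)
    (by rw [map_div₀, map_add, map_add, map_neg, hσν, hσ1, hσ2])
  set d := hh (eP b) (eP (b + b')) with hd
  obtain ⟨α, hα, hαd⟩ : ∃ α : F, σ α + α = (-N1 + ν + N2) / ν ∧ α * ν + d ≠ 0 := by
    by_cases e : k * ν + d = 0
    · exact ⟨k + sk, by rw [map_add]; linear_combination hk + hsk,
        fun e' => mul_ne_zero hsk0 ha (by linear_combination e' - e)⟩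
    · exact ⟨k, hk, e⟩
  obtain ⟨β, hβ⟩ := exists_norm_eq hF (c := -N1 / ν - α * σ α)
    (by rw [map_sub, map_div₀, map_neg, map_mul, hσν, hσ1, frob_frob hF]; ring)
  set p : Fin 2 → F := ![-σ (a 1), σ (a 0)] with hp
  have hap : hh (eN a) (eN p) = 0 := by rw [h_En hF]; simp only [p, cons_val_zero, cons_val_one, map_neg, frob_frob hF]; ring
  have hpa : hh (eN p) (eN a) = 0 := by rw [← h_swap hF (eN a) (eN p), hap, map_zero]
  have hpp : hh (eN p) (eN p) = ν := by rw [hν, h_En hF, h_En hF]; simp only [p, cons_val_zero, cons_val_one, map_neg, frob_frob hF]; ring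
  set aw := α • a + β • p with haw
  have eaw : eN aw = α • eN a + β • eN p := by simp [aw, Matrix.mulVec_add, Matrix.mulVec_smul]
  have nw : hh (eN aw) (eN aw) = -N1 := by
    rw [eaw]
    simp only [h_add_left, h_add_right hF, h_smul_left, h_smul_right hF, hap, hpa, hpp, ← hν]
    field_simp at hβ
    linear_combination hβ
  have mw : hh (eN aw) (eN a) = α * ν := by
    rw [eaw, h_add_left, h_smul_left, h_smul_left, hpa, ← hν]; ring
  have mw' : hh (eN a) (eN aw) = σ α * ν := by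
    rw [← h_swap hF (eN aw) (eN a), mw, map_mul, hσν]
  have eu : eN (a - aw) = eN a - eN aw := Matrix.mulVec_sub _ _ _
  have nu : hh (eN (a - aw)) (eN (a - aw)) = -N2 := by
    rw [eu]
    simp only [h_sub_left, h_sub_right hF, mw, mw', nw, ← hν]
    field_simp at hα
    linear_combination -hα
  have iw : hh (eN aw + eP b) (eN aw + eP b) = 0 := by rw [h_sum hF, nw, ← hN1]; ring
  have iu : hh (eN (a - aw) + eP b') (eN (a - aw) + eP b') = 0 := by rw [h_sum hF, nu, ← hN2]; ring
  have esum : eN a + eP (b + b') = (eN aw + eP b) + (eN (a - aw) + eP b') := by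
    rw [eu, show eP (b + b') = eP b + eP b' from Matrix.mulVec_add _ _ _]; abel
  rw [esum] at hiso ⊢
  refine ctr_join (hb _ (by rw [nw, neg_ne_zero]; exact hn) iw) (hb' _ (by rw [nu, neg_ne_zero]; exact hn') iu)
    iw iu hiso fun e => hαd ?_
  have e' := congrArg σ e
  rw [h_swap hF, map_zero, ← zero_add (hh (eN aw + eP b) (eN (a - aw) + eP b'))] at e'
  nth_rewrite 1 [← iw] at e'
  rw [← h_add_right hF, ← esum, h_sum hF, mw, ← hd] at e'
  exact e'

/-- The transvections centred in the negated plane give everything. -/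
theorem top_of_ctr [NeZero (2 : F)] (hq : q % 5 = 4) {ω : F} (h : Root ω) (hX : ∃ g ∈ K, (g : M5) = Xm ω)
    (hY : ∃ g ∈ K, (g : M5) = Ym) (hK : K ≤ G) (hP : PlaneCtr K hF) : G ≤ K := by
  have h2 := h.two_ne
  have h5 := h.pow_five
  have hσω := frob_root hF hq h
  obtain ⟨gx, hgx, ex⟩ := hX
  obtain ⟨gy, hgy, ey⟩ := hY
  obtain ⟨t₀, ht₀⟩ := exists_norm_eq hF (c := (-1 : F)) (by rw [map_neg, map_one])
  -- a suitable parameter
  obtain ⟨t, ht, hT⟩ : ∃ t : F, t * σ t = -1 ∧ (t + σ t) * (t + σ t) ≠ 1 := by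
    by_contra hno
    push Not at hno
    have hz : ∀ j : ℕ, (t₀ * ω ^ j) ^ 4 - 3 * (t₀ * ω ^ j) ^ 2 + 1 = 0 := fun j => by
      set z := t₀ * ω ^ j with hzd
      have hn : z * σ z = -1 := by
        rw [hzd, map_mul, map_pow, mul_mul_mul_comm, ht₀, ← mul_pow, root_frob_mul hF hq h, one_pow, mul_one]
      linear_combination z ^ 2 * hno z hn - (2 * z ^ 2 + z * σ z - 1) * hn
    have s0 := hz 0; have s1 := hz 1; have s2 := hz 2; have s3 := hz 3; have s4 := hz 4
    have he := h.eq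
    have S4 : 1 + ω ^ 4 + ω ^ 8 + ω ^ 12 + ω ^ 16 = 0 := by
      linear_combination he + (ω ^ 3 + ω ^ 2 * (ω ^ 5 + 1) + ω * (ω ^ 10 + ω ^ 5 + 1)) * h5
    have S2 : 1 + ω ^ 2 + ω ^ 4 + ω ^ 6 + ω ^ 8 = 0 := by linear_combination he + (ω + ω ^ 3) * h5
    exact h.five_ne (by linear_combination s0 + s1 + s2 + s3 + s4 - t₀ ^ 4 * S4 + 3 * t₀ ^ 2 * S2)
  have hmove : ∀ (g : GL (Fin 5) F), g ∈ K → ∀ v, Ctr hF K v → Ctr hF K ((g : M5) *ᵥ v) :=
    fun g hg v hv => hv.conj hg (hK hg)
  have hiso' : ∀ (g : GL (Fin 5) F), g ∈ K → ∀ u v, hh ((g : M5) *ᵥ u) ((g : M5) *ᵥ v) = hh u v :=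
    fun g hg u v => G_isometry (hK hg) u v
  have hu : ∀ s : F, s * σ s = -1 → hh (eN ![1, s]) (eN ![1, s]) = 0 := fun s hs => by
    rw [h_En hF]; simp only [cons_val_zero, cons_val_one, map_one, mul_one]; linear_combination (2 : F) * hs
  have orbit : ∀ (g : GL (Fin 5) F), g ∈ K → ∀ (s : F), s * σ s = -1 → ∀ (a : Fin 2 → F) (b : Fin 3 → F),
      (g : M5) *ᵥ eN ![1, s] = eN a + eP b → hh (eP b) (eP b) ≠ 0 → Nice3 hF K b := by
    intro g hg s hs a b e hn
    have hi : hh (eN a + eP b) (eN a + eP b) = 0 := by rw [← e, hiso' g hg, hu s hs]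
    refine Or.inr ⟨good_of_one h2 hs hP (a₀ := a) ?_ hi (e ▸ hmove g hg _ (hP _ (hu s hs))), hn⟩
    intro e0
    rw [h_sum hF, e0, zero_add] at hi
    exact hn hi
  have hXv : ∀ (v : V5) i, ((gx : M5) *ᵥ v) i = ω ^ (i : ℕ) * v i := fun v i => by
    rw [ex]; exact Matrix.mulVec_diagonal _ _ _
  have hYv : ∀ (v : V5) i, ((gy : M5) *ᵥ v) i = v (i - 1) := fun v i => by
    rw [ey]
    simp only [Matrix.mulVec, dotProduct]
    rw [Finset.sum_eq_single (i - 1)]
    · simp [Ym]
    · intro b _ hb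
      have : i ≠ b + 1 := fun e => hb (by rw [e, add_sub_cancel_right])
      simp [Ym, this]
    · simp
  set P := ω - ω ^ 4 with hPd
  set Q := ω ^ 2 - ω ^ 3 with hQd
  have hσP : σ P = -P := by
    simp only [hPd, map_sub, map_pow, hσω]; grind
  have hσQ : σ Q = -Q := by
    simp only [hQd, map_sub, map_pow, hσω]; grind
  have hPQ : Q ^ 2 - P ^ 2 ≠ 0 := fun e =>
    h.gauss_ne (by rw [hPd, hQd] at e; linear_combination e + (ω ^ 3 - ω) * h5)
  set b₁ : Fin 3 → F := ![0, P, t * Q] with hb₁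
  set b₂ : Fin 3 → F := ![0, Q, t * P] with hb₂
  have N1 : Nice3 hF K b₁ := by
    have n := orbit gx hgx t ht ![(ω + ω ^ 4) / 2, t * (ω ^ 2 + ω ^ 3) / 2] ![0, P / 2, t * Q / 2] (by
        funext i
        rw [hXv]
        fin_cases i <;> simp [En, Ep, Matrix.mulVec, dotProduct, Fin.sum_univ_two, Fin.sum_univ_three, P, Q] <;>
          field_simp <;> ring)
      (by
        rw [h_Ep hF]
        simp [map_ofNat, hσP, hσQ]
        field_simp
        exact ⟨h2, fun e => hPQ (by linear_combination e + Q ^ 2 * ht)⟩)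
    rw [show b₁ = (2 : F) • ![0, P / 2, t * Q / 2] by
      funext i; fin_cases i <;> simp [b₁] <;> field_simp]
    exact nice_smul n 2
  have N2 : Nice3 hF K b₂ := by
    have n := orbit (gx * gx) (mul_mem hgx hgx) (-t) (by rw [map_neg, neg_mul_neg, ht])
      ![(ω ^ 2 + ω ^ 3) / 2, -t * (ω + ω ^ 4) / 2] ![0, Q / 2, t * P / 2] (by
        funext i
        rw [Units.val_mul, ← Matrix.mulVec_mulVec, hXv, hXv]
        fin_cases i <;> simp [En, Ep, Matrix.mulVec, dotProduct, Fin.sum_univ_two, Fin.sum_univ_three, P, Q] <;>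
          field_simp <;> grind)
      (by
        rw [h_Ep hF]
        simp [map_ofNat, hσP, hσQ]
        field_simp
        exact ⟨h2, fun e => hPQ (by linear_combination -e - P ^ 2 * ht)⟩)
    rw [show b₂ = (2 : F) • ![0, Q / 2, t * P / 2] by
      funext i; fin_cases i <;> simp [b₂] <;> field_simp]
    exact nice_smul n 2
  have ht0 : t ≠ 0 := fun e => by rw [e, zero_mul] at ht; exact one_ne_zero (neg_eq_zero.1 ht.symm)
  -- the part without first coordinate
  have plane : ∀ y z : F, hh (eP ![0, y, z]) (eP ![0, y, z]) ≠ 0 → Nice3 hF K ![0, y, z] := by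
    intro y z hn
    have e : ![0, y, z] = ((Q * z / t - P * y) / (Q ^ 2 - P ^ 2)) • b₁ +
        ((Q * y - P * z / t) / (Q ^ 2 - P ^ 2)) • b₂ := by
      funext i; fin_cases i <;> simp [b₁, b₂] <;> field_simp <;> ring
    rw [e] at hn ⊢
    exact good_add h2 (nice_smul N1 _) (nice_smul N2 _) hn
  have h2T : ∀ c : F, c * c = 1 → t + σ t ≠ c := fun c hc e => hT (by rw [e, hc])
  set e₀ : Fin 3 → F := ![1, 0, 0] with he₀
  have N0 : Nice3 hF K e₀ := by
    have hny : hh (eP ![-1, -t / 2, (1 + t) / 2]) (eP ![-1, -t / 2, (1 + t) / 2]) ≠ 0 := by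
      rw [h_Ep hF]
      simp [map_ofNat]
      field_simp
      intro e
      refine h2T (-1) (by norm_num) ?_
      linear_combination e - 2 * ht
    have ny := orbit gy hgy t ht ![t / 2, (1 - t) / 2] ![-1, -t / 2, (1 + t) / 2] (by
      funext i
      rw [hYv]
      fin_cases i <;> simp [En, Ep, Matrix.mulVec, dotProduct, Fin.sum_univ_two, Fin.sum_univ_three] <;>
        field_simp <;> ring) hny
    have nb := plane (-t / 2) ((1 + t) / 2) (by
      rw [h_Ep hF]
      simp [map_ofNat]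
      field_simp
      refine ⟨h2, fun e => h2T 1 (by norm_num) ?_⟩
      linear_combination e - 2 * ht)
    have e : e₀ = (-1 : F) • ![-1, -t / 2, (1 + t) / 2] + ![0, -t / 2, (1 + t) / 2] := by
      funext i; fin_cases i <;> simp [e₀]
    rw [e]
    refine good_add h2 (nice_smul ny _) nb ?_
    rw [← e, h_Ep hF]
    simp [e₀]
  -- all anisotropic vectors of the fixed space
  have all : ∀ b : Fin 3 → F, hh (eP b) (eP b) ≠ 0 → Nice3 hF K b := by
    intro b hn
    have hN : ∀ x y z : F, hh (eP ![x, y, z]) (eP ![x, y, z]) = x * σ x + 2 * (y * σ y + z * σ z) := fun x y z => by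
      rw [h_Ep hF]; simp
    have eb : b = ![b 0, b 1, b 2] := by funext i; fin_cases i <;> rfl
    rw [eb] at hn ⊢
    generalize b 0 = x at hn ⊢
    generalize b 1 = y at hn ⊢
    generalize b 2 = z at hn ⊢
    have hx : Nice3 hF K ![x, 0, 0] := by
      have := nice_smul N0 x
      simpa [e₀] using this
    have hy : Nice3 hF K ![0, y, 0] := by
      by_cases hy : y = 0
      · exact Or.inl (by simp [hy])
      · exact plane y 0 (by rw [hN]; simp; exact ⟨h2, hy⟩)
    have hz : Nice3 hF K ![0, 0, z] := by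
      by_cases hz : z = 0
      · exact Or.inl (by simp [hz])
      · exact plane 0 z (by rw [hN]; simp; exact ⟨h2, hz⟩)
    rw [hN] at hn
    by_cases c1 : x * σ x + 2 * (y * σ y) = 0
    · by_cases c2 : x * σ x + 2 * (z * σ z) = 0
      · by_cases c3 : 2 * (y * σ y) + 2 * (z * σ z) = 0
        · exact absurd (mul_left_cancel₀ h2 (by linear_combination c1 + c2 + c3)) hn
        · have hyz := plane y z (by rw [hN]; simpa [mul_add] using c3)
          have e : ![x, y, z] = ![x, 0, 0] + ![0, y, z] := by funext i; fin_cases i <;> simp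
          rw [e]
          exact good_add h2 hx hyz (by rw [← e, hN]; exact hn)
      · have hxz := good_add h2 hx hz (by
          rw [show ![x, 0, 0] + ![0, 0, z] = ![x, 0, z] by funext i; fin_cases i <;> simp, hN]
          simpa using c2)
        have e : ![x, y, z] = ![x, 0, 0] + ![0, 0, z] + ![0, y, 0] := by funext i; fin_cases i <;> simp
        rw [e]
        exact good_add h2 hxz hy (by rw [← e, hN]; exact hn)
    · have hxy := good_add h2 hx hy (by
        rw [show ![x, 0, 0] + ![0, y, 0] = ![x, y, 0] by funext i; fin_cases i <;> simp, hN]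
        simpa using c1)
      have e : ![x, y, z] = ![x, 0, 0] + ![0, y, 0] + ![0, 0, z] := by funext i; fin_cases i <;> simp
      rw [e]
      exact good_add h2 hxy hz (by rw [← e, hN]; exact hn)
  -- all isotropic vectors
  have easy : ∀ v : V5, hh v v = 0 →
      hh (eN ((Ln : Matrix (Fin 2) (Fin 5) F) *ᵥ v)) (eN ((Ln : Matrix (Fin 2) (Fin 5) F) *ᵥ v)) ≠ 0 →
      Ctr hF K v := by
    intro v hv hn
    set a := (Ln : Matrix (Fin 2) (Fin 5) F) *ᵥ v
    set b := (Lp : Matrix (Fin 3) (Fin 5) F) *ᵥ v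
    rw [decomp h2 v] at hv ⊢
    have hnb : hh (eP b) (eP b) ≠ 0 := fun e => hn (by
      rw [h_sum hF, e, add_zero] at hv; exact hv)
    rcases all b hnb with e | ⟨hg, -⟩
    · rw [e] at hnb; exact absurd (by rw [h_Ep hF]; simp) hnb
    · exact hg a hn hv
  refine SU_le_of_ctr (hF := hF) (by norm_num) fun v hv => ?_
  by_contra hbad
  have hzero : ∀ k l : ℕ, hh (eN ((Ln : Matrix (Fin 2) (Fin 5) F) *ᵥ ((gx ^ l * gy ^ k : GL (Fin 5) F) : M5) *ᵥ v))
      (eN ((Ln : Matrix (Fin 2) (Fin 5) F) *ᵥ ((gx ^ l * gy ^ k : GL (Fin 5) F) : M5) *ᵥ v)) = 0 := by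
    intro k l
    by_contra hne
    have hg : gx ^ l * gy ^ k ∈ K := mul_mem (pow_mem hgx l) (pow_mem hgy k)
    have := hmove _ (inv_mem hg) _ (easy _ (by rw [hiso' _ hg]; exact hv) hne)
    rw [Matrix.mulVec_mulVec, Units.inv_mul, Matrix.one_mulVec] at this
    exact hbad this
  have hXl : ∀ (l : ℕ) (u : V5) i, (((gx ^ l : GL (Fin 5) F) : M5) *ᵥ u) i = (ω ^ l) ^ (i : ℕ) * u i := by
    intro l
    induction l with
    | zero => intro u i; simp
    | succ l ih =>
      intro u i
      rw [pow_succ, Units.val_mul, ← Matrix.mulVec_mulVec, ih, hXv, pow_succ, mul_pow, mul_assoc]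
  have hu0 : ∀ k : ℕ, (((gy ^ k : GL (Fin 5) F) : M5) *ᵥ v) 0 = 0 := by
    intro k
    set u := ((gy ^ k : GL (Fin 5) F) : M5) *ᵥ v with hud
    have hun : hh u u = 0 := by rw [hud, hiso' _ (pow_mem hgy k)]; exact hv
    rw [h_eq_dot hF, dotProduct, Fin.sum_univ_five] at hun
    have he : ∀ l : ℕ,
        (u 1 * σ (u 1) + u 4 * σ (u 4) + u 2 * σ (u 2) + u 3 * σ (u 3)) -
          (ω ^ (2 * l) * (u 1 * σ (u 4)) + ω ^ (3 * l) * (u 4 * σ (u 1)) + ω ^ (4 * l) * (u 2 * σ (u 3)) +
            ω ^ l * (u 3 * σ (u 2))) = 0 := by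
      intro l
      have e := hzero k l
      rw [Units.val_mul, ← Matrix.mulVec_mulVec, ← hud, h_En hF] at e
      have hw : (ω ^ l) ^ 5 = 1 := by rw [← pow_mul, mul_comm, pow_mul, h5, one_pow]
      have hsw : σ (ω ^ l) = (ω ^ l) ^ 4 := by rw [map_pow, hσω, ← pow_mul, ← pow_mul, mul_comm]
      rw [mul_comm 2 l, mul_comm 3 l, mul_comm 4 l, pow_mul, pow_mul, pow_mul]
      have ew := hXl l u
      generalize ((gx ^ l : GL (Fin 5) F) : M5) *ᵥ u = x at e ew
      simp [Ln, Matrix.mulVec, dotProduct, Fin.sum_univ_five, map_ofNat, -map_pow] at e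
      simp only [ew, Fin.val_zero, Fin.val_one, Fin.val_two, show ((3 : Fin 5) : ℕ) = 3 from rfl,
        show ((4 : Fin 5) : ℕ) = 4 from rfl, map_mul, map_pow _ (ω ^ l), hsw] at e
      generalize ω ^ l = w at hw e ⊢
      field_simp at e
      replace e := e.resolve_left h2
      have w10 : w ^ 10 = 1 := by linear_combination (w ^ 5 + 1) * hw
      have w15 : w ^ 15 = 1 := by linear_combination (w ^ 10 + w ^ 5 + 1) * hw
      rw [hw] at e
      linear_combination e - (u 4 * σ (u 4)) * w15 + (w ^ 2 * (u 1 * σ (u 4))) * w10 -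
        (u 3 * σ (u 3)) * hw
    have e0 := he 0; have e1 := he 1; have e2 := he 2; have e3 := he 3; have e4 := he 4
    have heq := h.eq
    have Z3 : 1 + ω ^ 3 + ω ^ 6 + ω ^ 9 + ω ^ 12 = 0 := by
      linear_combination heq + (ω + ω ^ 4 + ω ^ 2 * (ω ^ 5 + 1)) * h5
    have Z4 : 1 + ω ^ 4 + ω ^ 8 + ω ^ 12 + ω ^ 16 = 0 := by
      linear_combination heq + (ω ^ 3 + ω ^ 2 * (ω ^ 5 + 1) + ω * (ω ^ 10 + ω ^ 5 + 1)) * h5
    have Z2 : 1 + ω ^ 2 + ω ^ 4 + ω ^ 6 + ω ^ 8 = 0 := by linear_combination heq + (ω + ω ^ 3) * h5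
    have hS : (5 : F) * (u 1 * σ (u 1) + u 4 * σ (u 4) + u 2 * σ (u 2) + u 3 * σ (u 3)) = 0 := by
      linear_combination e0 + e1 + e2 + e3 + e4 + (u 1 * σ (u 4)) * Z2 + (u 4 * σ (u 1)) * Z3 +
        (u 2 * σ (u 3)) * Z4 + (u 3 * σ (u 2)) * heq
    have hS' := (mul_eq_zero.1 hS).resolve_left h.five_ne
    have : u 0 * σ (u 0) = 0 := by linear_combination hun - hS'
    rcases mul_eq_zero.1 this with e | e
    · exact e
    · exact (map_eq_zero _).1 e
  refine hbad ?_
  have this : v = 0 := by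
    have k0 := hu0 0; have k1 := hu0 1; have k2 := hu0 2; have k3 := hu0 3; have k4 := hu0 4
    simp only [pow_zero, pow_succ, one_mul, Units.val_mul, Units.val_one, ← Matrix.mulVec_mulVec, Matrix.one_mulVec,
      hYv] at k0 k1 k2 k3 k4
    funext i
    fin_cases i
    · exact k0
    · exact k4
    · exact k3
    · exact k2
    · exact k1
  rw [this]
  exact ctr_zero

end CfsgLib.MaxSub.HeisFiveU
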