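/-
The group induced on the negated plane by a unitary overgroup, and the isolation of the involution.
-/
import Cfsg.Agent.Lib.MaxSub.HeisFive.Fusion
import Cfsg.Agent.Lib.MaxSub.HeisFiveU.Spread
import Cfsg.Agent.S0281
import Cfsg.Agent.Lib.UnitaryOrder
import Cfsg.Agent.Lib.SUCover.Basic

set_option autoImplicit false
set_option linter.unusedSectionVars false
set_option linter.style.haveILetI false
set_option maxHeartbeats 800000

namespace CfsgLib.MaxSub.HeisFiveU

open Matrix Cfsg Cfsg.Geo CfsgLib.UnitaryTransvection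
open CfsgLib.MaxSub.HeisFive (Root Xm Ym Jm Jg Ep En Lp Ln bp bn wM Over cenJ pB HasFives slPart pslPart)
open CfsgLib.PSL2 (mk_eq_mk)

local notation "pmk" => CfsgLib.PSL2.mk

variable {F : Type*} [Field F] [Fintype F] [NeZero (2 : F)] {q : ℕ} {hF : Fintype.card F = q ^ 2}

local notation "hh" => Cfsg.hermForm 5 F q
local notation "h2'" => Cfsg.hermForm 2 F q
local notation "σ" => frob hF
local notation "M5" => Matrix (Fin 5) (Fin 5) F
local notation "M2" => Matrix (Fin 2) (Fin 2) F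
local notation "G" => Cfsg.GU 5 F q ⊓ specialLinear (Fin 5) F

/-- The unitary matrices of the plane. -/
def Sm (q : ℕ) : Set (Matrix (Fin 2) (Fin 2) F) :=
  {M | ∀ u v, Cfsg.hermForm 2 F q (M *ᵥ u) (M *ᵥ v) = Cfsg.hermForm 2 F q u v}

section Forms

variable (hF)
include hF

theorem h_two (u v : Fin 2 → F) : h2' u v = u 0 * σ (v 0) + u 1 * σ (v 1) := by
  simp [Cfsg.hermForm, Fin.sum_univ_two, frob_apply]

theorem h_En_two (a a' : Fin 2 → F) :
    hh ((En : Matrix (Fin 5) (Fin 2) F) *ᵥ a) ((En : Matrix (Fin 5) (Fin 2) F) *ᵥ a') = 2 * h2' a a' := by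
  rw [h_En hF, h_two hF]

end Forms

variable (hF)
variable {ω : F} {H : Subgroup (GL (Fin 5) F)} (O : Over ω H)
  (hHG : H ≤ Cfsg.GU 5 F q ⊓ Cfsg.Geo.specialLinear (Fin 5) F)
include hF O hHG

theorem range_unitary {B : GL (Fin 2) F} (hB : B ∈ (pB O.h2 H).range) : (B : M2) ∈ Sm (F := F) q := by
  obtain ⟨g, rfl⟩ := hB
  intro u v
  refine mul_left_cancel₀ O.h2 ?_
  rw [← h_En_two hF, ← h_En_two hF]
  have e : ∀ x : Fin 2 → F, (En : Matrix (Fin 5) (Fin 2) F) *ᵥ (((pB O.h2 H g : GL (Fin 2) F) : M2) *ᵥ x) =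
      ((g : GL (Fin 5) F) : M5) *ᵥ ((En : Matrix (Fin 5) (Fin 2) F) *ᵥ x) := fun x => by
    rw [Matrix.mulVec_mulVec, Matrix.mulVec_mulVec, HeisFive.mul_En O.h2 (HeisFive.cenJ_comm g), HeisFive.pB_val]
  rw [e, e]
  exact (hHG (HeisFive.mem_cenJ.1 g.2).1).1 _ _

/-- Dickson inside the unitary group of the plane. -/
theorem dichotomy {p : ℕ} [Fact p.Prime] [CharP F p] (h3 : 3 ≤ p) (hq4 : 4 ≤ q)
    (hp : q = p ∨ (q = p ^ 2 ∧ ¬ 5 ∣ p * (p ^ 2 - 1))) :
    (∀ s : Matrix.SpecialLinearGroup (Fin 2) F, s.1 ∈ Sm (F := F) q →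
        Matrix.SpecialLinearGroup.toGL s ∈ (pB O.h2 H).range ∧ s ∈ slPart (pB O.h2 H).range) ∧
      IsSimpleGroup (pslPart (pB O.h2 H).range) ∨
    Nonempty (pslPart (pB O.h2 H).range ≃* alternatingGroup (Fin 5)) := by
  classical
  set X := (pB O.h2 H).range
  have F2 := O.hasFives
  set U := Cfsg.SU 2 F q with hU
  have hmemU : ∀ s : Matrix.SpecialLinearGroup (Fin 2) F, s ∈ U ↔ s.1 ∈ Sm (F := F) q := fun s => Iff.rfl
  have hle : slPart X ≤ U := fun s hs => (hmemU s).2 (range_unitary hF O hHG hs)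
  haveI : Finite (Matrix.SpecialLinearGroup (Fin 2) F) := Subtype.finite
  set PU := U.map pmk with hPU
  have hPle : pslPart X ≤ PU := Subgroup.map_mono hle
  -- orders
  have hq2 : 2 ≤ q := (UnitaryBasic.frob_exists hF).1
  obtain ⟨j, hj, hjq⟩ : ∃ j, 1 ≤ j ∧ q = p ^ j := by
    rcases hp with e | ⟨e, -⟩
    · exact ⟨1, le_rfl, by rw [e, pow_one]⟩
    · exact ⟨2, by norm_num, e⟩
  have hcardU : Nat.card U = q * (q ^ 2 - 1) := by
    obtain ⟨L, _, _, hL⟩ := SUCover.exists_K hF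
    obtain ⟨e⟩ := Cfsg.Agent.S0281.result (F := F) hF hL
    rw [hU, Nat.card_congr e.toEquiv, SLCard.card_SL_two, hL]
  have hneg : (-1 : Matrix.SpecialLinearGroup (Fin 2) F) ∈ U := by
    rw [hmemU]
    intro u v
    simp [h_two hF, Matrix.SpecialLinearGroup.coe_neg, Matrix.neg_mulVec]
  have hPcard : 2 * Nat.card PU ≤ q * (q ^ 2 - 1) := by
    set f := (pmk : Matrix.SpecialLinearGroup (Fin 2) F →* _).comp U.subtype
    have h1 := Subgroup.card_mul_index f.ker
    rw [Subgroup.index_ker, hcardU] at h1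
    have hr : Nat.card f.range = Nat.card PU := by
      rw [MonoidHom.range_comp, Subgroup.range_subtype]
    rw [hr] at h1
    have h2k : 2 ≤ Nat.card f.ker := by
      haveI : Finite U := inferInstance
      refine Finite.one_lt_card_iff_nontrivial.2 ⟨⟨⟨⟨-1, hneg⟩, ?_⟩, 1, fun e => ?_⟩⟩
      · rw [MonoidHom.mem_ker]
        show pmk (-1 : Matrix.SpecialLinearGroup (Fin 2) F) = 1
        rw [← map_one pmk, mk_eq_mk]
        exact Or.inr (by simp)
      · have e' := congrFun (congrFun (congrArg (fun x : f.ker => ((x : U) : Matrix.SpecialLinearGroup (Fin 2) F).1) e) 0) 0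
        simp at e'
        exact O.h2 (by linear_combination -e')
    rw [← h1]
    exact Nat.mul_le_mul_right _ h2k
  rcases HeisFive.cases_five F2 (p := p) h3 with e | e | ⟨Q, m, L, hL, hL', hLQ, hQ3, hm, hQm, hiso⟩
  · exfalso
    rw [e] at hPle
    have h1 := Subgroup.card_le_of_le hPle
    rw [Subgroup.card_top] at h1
    have h2 := DicksonFull.card_psl (F := F)
    have h3' : Nat.gcd 2 (Fintype.card F - 1) ≤ 2 := Nat.le_of_dvd (by norm_num) (Nat.gcd_dvd_left _ _)
    have h4 : Fintype.card F * (Fintype.card F ^ 2 - 1) ≤ q * (q ^ 2 - 1) := by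
      rw [← h2]
      exact (Nat.mul_le_mul h3' h1).trans hPcard
    rw [hF] at h4
    have h5 : q ^ 2 - 1 < (q ^ 2) ^ 2 - 1 := by
      have h4q : 4 ≤ q ^ 2 := Nat.pow_le_pow_left hq2 2
      have : q ^ 2 < (q ^ 2) ^ 2 := by nlinarith
      omega
    have : q * (q ^ 2 - 1) < q ^ 2 * ((q ^ 2) ^ 2 - 1) :=
      Nat.mul_lt_mul_of_le_of_lt (Nat.le_self_pow (by norm_num) q) h5 (by positivity)
    omega
  · exact Or.inr e
  left
  -- the subfield is the field of q elements
  have hQq : Q = q := by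
    have hQd : Q ∣ p ^ (2 * j) := by
      have : Q ^ m = p ^ (2 * j) := by rw [hQm, hF, hjq, ← pow_mul, mul_comm]
      exact this ▸ dvd_pow_self Q (by omega)
    obtain ⟨i, -, rfl⟩ := (Nat.dvd_prime_pow Fact.out).1 hQd
    rw [hF, hjq, ← pow_mul, ← pow_mul] at hQm
    have him := Nat.pow_right_injective (Nat.Prime.two_le Fact.out) hQm
    rcases hp with e | ⟨e, h5⟩
    · have : j = 1 := Nat.pow_right_injective (Nat.Prime.two_le Fact.out) (show p ^ j = p ^ 1 by rw [← hjq, e, pow_one])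
      have hi : i = 1 := by
        rcases i with _ | _ | i
        · simp at hQ3
        · rfl
        · exfalso; nlinarith
      rw [hi, hjq, this]
    · have hj2 : j = 2 := Nat.pow_right_injective (Nat.Prime.two_le Fact.out) (show p ^ j = p ^ 2 by rw [← hjq, e])
      have : i ≤ 2 := by nlinarith
      rcases i with _ | _ | _ | i
      · simp at hQ3
      · exfalso
        refine h5 ?_
        have hcard : Nat.card (pslPart X) ∣ p * (p ^ 2 - 1) := by
          rcases hiso with ⟨⟨f⟩⟩ | ⟨⟨f⟩⟩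
          · rw [Nat.card_congr f.toEquiv]
            have := DicksonFull.card_psl (F := L)
            rw [hLQ, zero_add, pow_one] at this
            exact ⟨_, by rw [← this, mul_comm]⟩
          · rw [Nat.card_congr f.toEquiv, SLCard.card_PGL, SLCard.card_SL_two, hLQ, zero_add, pow_one]
        refine dvd_trans ?_ hcard
        rw [← F2.order_w]
        exact Subgroup.orderOf_dvd_natCard _ ⟨_, F2.sw_mem, rfl⟩
      · rw [hjq, hj2]
      · omega
  subst hQq
  have hPL : ∀ {T : Type} [Group T], (pslPart X ≃* T) → Nat.card T ≤ Nat.card PU := fun f => by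
    rw [← Nat.card_congr f.toEquiv]; exact Subgroup.card_le_of_le hPle
  have hodd : Nat.gcd 2 (Fintype.card L - 1) = 2 := by
    rw [hLQ, hjq]
    have hp2 : Odd p := (Nat.Prime.odd_of_ne_two Fact.out (by omega))
    have : Odd (p ^ j) := hp2.pow
    obtain ⟨k, hk⟩ := this
    rw [hk, Nat.add_sub_cancel]
    exact Nat.gcd_mul_right_right _ _
  have hpos : 0 < Q * (Q ^ 2 - 1) := Nat.mul_pos (by omega) (Nat.sub_pos_of_lt (by nlinarith))
  rcases hiso with ⟨⟨f⟩⟩ | ⟨⟨f⟩⟩
  swap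
  · exfalso
    have h1 := hPL f
    rw [SLCard.card_PGL, SLCard.card_SL_two, hLQ] at h1
    omega
  have hPcard' : Nat.card PU ≤ Nat.card (pslPart X) := by
    rw [Nat.card_congr f.toEquiv]
    have := DicksonFull.card_psl (F := L)
    rw [hodd, hLQ] at this
    omega
  have heq : pslPart X = PU := Subgroup.eq_of_le_of_card_ge hPle hPcard'
  refine ⟨fun s hs => ?_, ?_⟩
  · have := HeisFive.all_of_top F2 ⟨_, ⟨O.Jc, rfl⟩, O.pB_Jc⟩ s (heq ▸ ⟨s, (hmemU s).2 hs, rfl⟩)
    exact ⟨this, this⟩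
  · haveI : IsSimpleGroup (Matrix.ProjectiveSpecialLinearGroup (Fin 2) L) :=
      Matrix.ProjectiveSpecialLinearGroup.rank_two_simple (by rw [Nat.card_eq_fintype_card, hLQ]; omega)
    haveI : Nontrivial (pslPart X) := f.toEquiv.nontrivial
    exact IsSimpleGroup.isSimpleGroup_of_surjective f.symm.toMonoidHom f.symm.surjective

/-- Frames of reflections: the plane elements conjugated from the standard shapes are unitary. -/
theorem frame (s : ↥(cenJ H)) (P : GL (Fin 2) F)
    (hP : ((pB O.h2 H s : GL (Fin 2) F) : M2) * (P : M2) = (P : M2) * diagonal ![1, -1]) (hr : σ ω = ω ^ 4) :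
    ∃ b : F, b ≠ 0 ∧ ∀ M : M2, (M = wM ω ∨ M = !![0, b; -b⁻¹, 0]) →
      (P : M2) * M * ((P⁻¹ : GL (Fin 2) F) : M2) ∈ Sm (F := F) q := by
  have hu := range_unitary hF O hHG (B := pB O.h2 H s) ⟨s, rfl⟩
  set Pm : M2 := (P : M2) with hPm
  set Pi' : M2 := ((P⁻¹ : GL (Fin 2) F) : M2)
  set c : Fin 2 → Fin 2 → F := fun i => Pm *ᵥ Pi.single i 1 with hc
  have hcol : ∀ i, ((pB O.h2 H s : GL (Fin 2) F) : M2) *ᵥ c i = (![1, -1] : Fin 2 → F) i • c i := by
    intro i
    rw [hc, Matrix.mulVec_mulVec, hP, ← Matrix.mulVec_mulVec, ← Matrix.mulVec_smul]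
    congr 1
    funext k
    rw [Matrix.mulVec_diagonal, Pi.smul_apply, smul_eq_mul]
    by_cases hk : k = i
    · subst hk; simp
    · simp [hk]
  have h01 : h2' (c 0) (c 1) = 0 := by
    have e := hu (c 0) (c 1)
    rw [hcol, hcol, h_smul_left, h_smul_right hF] at e
    simp only [cons_val_zero, cons_val_one, map_neg, map_one, one_mul, neg_mul] at e
    exact (mul_eq_zero.1 (by linear_combination -e : (2 : F) * h2' (c 0) (c 1) = 0)).resolve_left O.h2
  have h10 : h2' (c 1) (c 0) = 0 := by rw [← h_swap hF (c 0) (c 1), h01, map_zero]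
  have hexp : ∀ u : Fin 2 → F, Pm *ᵥ u = u 0 • c 0 + u 1 • c 1 := by
    intro u
    simp only [hc, ← Matrix.mulVec_smul, ← Matrix.mulVec_add]
    congr 1
    funext i
    fin_cases i <;> simp
  have hform : ∀ u v : Fin 2 → F, h2' (Pm *ᵥ u) (Pm *ᵥ v) =
      u 0 * σ (v 0) * h2' (c 0) (c 0) + u 1 * σ (v 1) * h2' (c 1) (c 1) := by
    intro u v
    rw [hexp, hexp]
    simp only [h_add_left, h_add_right hF, h_smul_left, h_smul_right hF, h01, h10]
    ring
  have hPP : ∀ x, Pm *ᵥ (Pi' *ᵥ x) = x := fun x => by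
    rw [Matrix.mulVec_mulVec, show Pm * Pi' = 1 from Units.mul_inv P, Matrix.one_mulVec]
  have hne : ∀ i, h2' (c i) (c i) ≠ 0 := by
    intro i e
    have hci : c i = 0 := h_nondeg hF fun y => by
      rw [← hPP y, hc, hform]
      fin_cases i <;> simp [hc] at e ⊢ <;> simp [e]
    have := congrArg (Pi' *ᵥ ·) hci
    simp only [hc, Matrix.mulVec_mulVec, show Pi' * Pm = 1 from Units.inv_mul P, Matrix.one_mulVec,
      Matrix.mulVec_zero] at this
    simpa using congrFun this i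
  set n₀ := h2' (c 0) (c 0)
  set n₁ := h2' (c 1) (c 1)
  obtain ⟨b, hb⟩ := exists_norm_eq hF (c := n₁ / n₀) (by
    rw [map_div₀, h_swap hF, h_swap hF])
  have hb0 : b ≠ 0 := fun e => div_ne_zero (hne 1) (hne 0) (by rw [← hb, e, zero_mul])
  refine ⟨b, hb0, fun M hM => fun u v => ?_⟩
  rw [← Matrix.mulVec_mulVec, ← Matrix.mulVec_mulVec, ← Matrix.mulVec_mulVec, ← Matrix.mulVec_mulVec]
  conv_rhs => rw [← hPP u, ← hPP v, hform]
  rw [hform]
  generalize Pi' *ᵥ u = x
  generalize Pi' *ᵥ v = y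
  have h5 := O.root.pow_five
  rcases hM with rfl | rfl
  · simp [wM, Matrix.mulVec_diagonal, hr]
    linear_combination (x 0 * σ (y 0) * n₀) * h5 + (x 1 * σ (y 1) * n₁) * (ω ^ 15 + ω ^ 10 + ω ^ 5 + 1) * h5
  · have hbs : σ b ≠ 0 := (map_ne_zero _).2 hb0
    have hn0 : n₀ ≠ 0 := hne 0
    simp [Matrix.mulVec, dotProduct, Fin.sum_univ_two]
    rw [eq_div_iff hn0] at hb
    field_simp
    linear_combination (x 1 * σ (y 1) * b * σ b - x 0 * σ (y 0)) * hb

/-- The plane group puts all transvection centres of the plane into the group. -/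
theorem plane_ctr (hq : q % 5 = 4)
    (htop : ∀ s : Matrix.SpecialLinearGroup (Fin 2) F, s.1 ∈ Sm (F := F) q →
      ∃ g ∈ cenJ H, bp (g : M5) = 1 ∧ bn (g : M5) = s.1) : PlaneCtr H hF := by
  have h2 := O.h2
  intro a ha g c hc hg
  set v := (En : Matrix (Fin 5) (Fin 2) F) *ᵥ a with hv
  set T := Cfsg.unitaryTransvection 5 q v c with hT
  have hTi : ∀ u w, hh (T *ᵥ u) (T *ᵥ w) = hh u w :=
    tmat_isometry hF (show Good hF v c by rw [Good, ha, mul_zero, add_zero, hc])
  have hJv : (Jm : M5) *ᵥ v = -v := by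
    rw [hv, Matrix.mulVec_mulVec, HeisFive.Jm_En h2, Matrix.neg_mulVec]
  have hJT : (Jm : M5) * T = T * Jm := by
    refine Matrix.ext_of_mulVec_single fun i => ?_
    rw [← Matrix.mulVec_mulVec, ← Matrix.mulVec_mulVec, tmat_mulVec, tmat_mulVec, Matrix.mulVec_add,
      Matrix.mulVec_smul, hJv]
    have hJi : ∀ u w, hh ((Jm : M5) *ᵥ u) ((Jm : M5) *ᵥ w) = hh u w := iso_of_gram hF (by
      have := gram_mul hF (gram_Fm hF hq O.root) (gram_Fm hF hq O.root)
      rwa [HeisFive.Fm_sq O.root] at this)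
    have e := hJi (Pi.single i 1) v
    rw [hJv, ← neg_one_smul F v, h_smul_right hF, map_neg, map_one] at e
    rw [show hh ((Jm : M5) *ᵥ Pi.single i 1) v = -hh (Pi.single i 1) v by linear_combination -e]
    module
  have hbp : bp T = 1 := by
    rw [bp, Matrix.mul_assoc, show T * (Ep : Matrix (Fin 5) (Fin 3) F) = Ep from ?_, HeisFive.Lp_Ep h2]
    refine Matrix.ext_of_mulVec_single fun i => ?_
    rw [← Matrix.mulVec_mulVec, tmat_mulVec, hv, h_Ep_En hF, mul_zero, zero_smul, add_zero]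
  have hd : T.det = 1 := by rw [det_tmat, ha, mul_zero, add_zero]
  have hdn : (bn T).det = 1 := by
    rw [HeisFive.det_blocks h2 hJT, hbp, det_one, one_mul] at hd
    exact hd
  obtain ⟨g', hg', hA, hB⟩ := htop ⟨bn T, hdn⟩ (fun u w => by
    refine mul_left_cancel₀ h2 ?_
    rw [← h_En_two hF, ← h_En_two hF, Matrix.mulVec_mulVec, Matrix.mulVec_mulVec, ← HeisFive.mul_En h2 hJT,
      ← Matrix.mulVec_mulVec, ← Matrix.mulVec_mulVec, hTi])
  have : g = g' := Units.ext (by
    refine hg.trans ((HeisFive.eq_blocks h2 hJT).trans ?_)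
    rw [hbp, ← hA, show bn T = bn (g' : M5) from hB.symm]
    exact (HeisFive.eq_blocks h2 (HeisFive.mem_cenJ.1 hg').2).symm)
  rw [this]
  exact (HeisFive.mem_cenJ.1 hg').1

/-- A proper unitary overgroup of the standard normaliser isolates the involution. -/
theorem involution_isolated {p : ℕ} [Fact p.Prime] [CharP F p] (h3 : 3 ≤ p) (hq : q % 5 = 4)
    (hp : q = p ∨ (q = p ^ 2 ∧ ¬ 5 ∣ p * (p ^ 2 - 1))) (hproper : ¬ G ≤ H)
    {h : GL (Fin 5) F} (hh' : h ∈ H) (hc : Jg * (h * Jg * h⁻¹) = h * Jg * h⁻¹ * Jg) : h * Jg * h⁻¹ = Jg := by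
  have hd := dichotomy hF O hHG h3 (by omega) hp
  refine HeisFive.involution_isolated_of O (Sm (F := F) q) (hd.imp And.left id) ?_
    (fun s P hP => frame hF O hHG s P hP (frob_root hF hq O.root))
    (fun htop => hproper (top_of_ctr (hF := hF) hq O.root O.hX O.hY hHG (plane_ctr hF O hHG hq htop))) hh' hc
  rcases hd with ⟨-, hs⟩ | ⟨⟨e⟩⟩
  · exact hs
  · haveI := alternatingGroup.isSimpleGroup_five
    haveI : Nontrivial (pslPart (pB O.h2 H).range) := e.toEquiv.nontrivial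
    exact IsSimpleGroup.isSimpleGroup_of_surjective e.symm.toMonoidHom e.symm.surjective

end CfsgLib.MaxSub.HeisFiveU
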