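/-
A unitary group of symplectic type of order 125 is unitarily conjugate to the standard one.
-/
import Cfsg.Agent.Lib.MaxSub.HeisFive.Std
import Cfsg.Agent.Lib.MaxSub.HeisFiveU.Basic

set_option autoImplicit false
set_option linter.unusedSectionVars false
set_option linter.style.haveILetI false
set_option maxHeartbeats 800000

namespace CfsgLib.MaxSub.HeisFiveU

open Matrix Cfsg CfsgLib.UnitaryTransvection
open CfsgLib.MaxSub.HeisFive (Root Xm Ym)

variable {F : Type*} [Field F] [Fintype F] {q : ℕ} (hF : Fintype.card F = q ^ 2) (hq : q % 5 = 4)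
include hF hq

local notation "V5" => Fin 5 → F
local notation "hh" => Cfsg.hermForm 5 F q
local notation "M5" => Matrix (Fin 5) (Fin 5) F

/-- A group of exponent five of similitudes is unitary. -/
theorem le_GU {R : Subgroup (GL (Fin 5) F)} (hexp : ∀ r ∈ R, r ^ 5 = 1)
    (hRs : R ≤ Cfsg.Geo.similarityGroup hh) : R ≤ Cfsg.GU 5 F q := by
  intro g hg
  obtain ⟨c, hc⟩ := hRs hg
  have h1 : hh (Pi.single 0 1) (Pi.single 0 1) = 1 := by
    rw [Cfsg.hermForm, Finset.sum_eq_single 0 (fun i _ hi => by simp [hi]) (by simp)]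
    simp
  have hcu : (c : F) ^ 5 = 1 := by
    have e : hh (((g ^ 5 : GL (Fin 5) F) : M5) *ᵥ Pi.single 0 1) (((g ^ 5 : GL (Fin 5) F) : M5) *ᵥ Pi.single 0 1) =
        (c : F) ^ 5 * hh (Pi.single 0 1) (Pi.single 0 1) := by
      simp only [pow_succ, pow_zero, one_mul, Units.val_mul, ← Matrix.mulVec_mulVec, hc]
      ring
    rw [hexp g hg, Units.val_one, Matrix.one_mulVec, h1, mul_one] at e
    exact e.symm
  have hcσ : frob hF (c : F) = c := by
    have e := hc (Pi.single 0 1) (Pi.single 0 1)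
    rw [h1, mul_one] at e
    have := h_swap hF ((g : M5) *ᵥ Pi.single 0 1) ((g : M5) *ᵥ Pi.single 0 1)
    rwa [e] at this
  have hc1 : (c : F) = 1 := by
    have hc4 : (c : F) ^ 4 = c := by
      rw [frob_apply, ← Nat.div_add_mod q 5, hq, pow_add, pow_mul, hcu, one_pow, one_mul] at hcσ
      exact hcσ
    have hc3 : (c : F) ^ 3 = 1 := mul_right_cancel₀ c.ne_zero (by rw [← pow_succ, hc4, one_mul])
    linear_combination ((c : F) ^ 3 + 1) * hc3 - (c : F) * hcu
  intro u v
  show hh ((g : M5) *ᵥ u) ((g : M5) *ᵥ v) = hh u v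
  rw [hc, hc1, one_mul]

/-- The unitary standard position. -/
theorem exists_std_unitary (h5 : (5 : F) ≠ 0) {R : Subgroup (GL (Fin 5) F)}
    (hsym : Cfsg.Geo.IsSymplecticTypeGroup 5 R)
    (habs : Cfsg.Geo.ActsAbsolutelyIrreducibly (Cfsg.Geo.matrixSet R))
    (hRs : R ≤ Cfsg.Geo.similarityGroup hh) (h125 : Nat.card ↥R = 125)
    (hZ : Nat.card (Subgroup.center ↥R) = 5) :
    ∃ (g : GL (Fin 5) F) (ω : F) (x y : GL (Fin 5) F), Root ω ∧ (x : M5) = Xm ω ∧ (y : M5) = Ym ∧
      g ∈ Cfsg.GU 5 F q ∧ R = (Subgroup.closure {x, y}).map (MulAut.conj g).toMonoidHom := by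
  obtain ⟨g, ω, x, y, h, ex, ey, hR⟩ :=
    HeisFive.exists_std_of h5 hsym habs hZ (m := 1) le_rfl (by rw [h125]; norm_num)
  have hexp : ∀ r ∈ R, r ^ 5 = 1 := fun r hr => by
    have := Monoid.pow_exponent_eq_one (⟨r, hr⟩ : ↥R)
    rw [hsym.exponent_eq, show 5 * Nat.gcd 2 5 = 5 by norm_num] at this
    exact congrArg Subtype.val this
  have hRU := le_GU hF hq hexp hRs
  set σ := frob hF with hσ
  set G : M5 := (g : M5).transpose * (g : M5).map σ with hG
  have inv : ∀ a : GL (Fin 5) F, a ∈ Subgroup.closure ({x, y} : Set (GL (Fin 5) F)) →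
      (a : M5).transpose * G * (a : M5).map σ = G := by
    intro a ha
    have hmem : g * a * g⁻¹ ∈ R := by rw [hR]; exact ⟨a, ha, rfl⟩
    have e := (mem_GU_iff hF _).1 (hRU hmem)
    have e1 : ((g * a * g⁻¹ : GL (Fin 5) F) : M5) * (g : M5) = (g : M5) * (a : M5) := by
      rw [← Units.val_mul, inv_mul_cancel_right, Units.val_mul]
    calc (a : M5).transpose * G * (a : M5).map σ
        = ((g : M5) * (a : M5)).transpose * ((g : M5) * (a : M5)).map σ := by
          rw [hG, Matrix.transpose_mul, Matrix.map_mul]; simp only [Matrix.mul_assoc]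
      _ = _ := by
          rw [← e1, Matrix.transpose_mul, Matrix.map_mul, Matrix.mul_assoc,
            ← Matrix.mul_assoc ((g * a * g⁻¹ : GL (Fin 5) F) : M5).transpose, e, Matrix.one_mul]
  have hX := inv x (Subgroup.subset_closure (Set.mem_insert _ _))
  have hY := inv y (Subgroup.subset_closure (Set.mem_insert_of_mem _ rfl))
  rw [ex] at hX
  rw [ey] at hY
  have hdiag : ∀ i j, i ≠ j → G i j = 0 := by
    intro i j hij
    have e := congrFun (congrFun hX i) j
    rw [Xm, diagonal_transpose, diagonal_map (map_zero σ), mul_diagonal, diagonal_mul] at e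
    simp only [map_pow, hσ, frob_root hF hq h] at e
    have hne : ω ^ (i : ℕ) * (ω ^ 4) ^ (j : ℕ) - 1 ≠ 0 := sub_ne_zero.2 fun e' => by
      rw [← pow_mul, ← pow_add] at e'
      have := h.pow_eq_one e'
      have := i.2; have := j.2
      have := Fin.val_ne_of_ne hij
      omega
    exact (mul_eq_zero.1 (by linear_combination e : (ω ^ (i : ℕ) * (ω ^ 4) ^ (j : ℕ) - 1) * G i j = 0)).resolve_left hne
  have hshift : ∀ i, G i i = G (i + 1) (i + 1) := by
    intro i
    have e := congrFun (congrFun hY i) i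
    rw [Matrix.mul_apply, Finset.sum_eq_single (i + 1)] at e
    · rw [Matrix.mul_apply, Finset.sum_eq_single (i + 1)] at e
      · simp [Ym] at e; exact e.symm
      · intro b _ hb; simp [Ym, hb]
      · simp
    · intro b _ hb; simp [Ym, hb]
    · simp
  set c := G 0 0 with hc
  have hGc : G = c • 1 := by
    have e1 : G 1 1 = c := (hshift 0).symm
    have e2 : G 2 2 = c := (hshift 1).symm.trans e1
    have e3 : G 3 3 = c := (hshift 2).symm.trans e2
    have e4 : G 4 4 = c := (hshift 3).symm.trans e3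
    ext i j
    by_cases hij : i = j
    · subst hij; fin_cases i <;> simp [e1, e2, e3, e4, hc]
    · simp [hdiag i j hij, hij]
  have hc0 : c ≠ 0 := by
    intro e
    rw [e, zero_smul] at hGc
    have hd := congrArg Matrix.det hGc
    rw [hG, det_mul, det_transpose, det_zero, ← RingHom.mapMatrix_apply, ← RingHom.map_det] at hd
    have hg0 : (g : M5).det ≠ 0 := ((Matrix.isUnit_iff_isUnit_det _).1 g.isUnit).ne_zero
    exact mul_ne_zero hg0 ((map_ne_zero σ).2 hg0) hd
  have hcσ : σ c = c := by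
    rw [hc, hG, Matrix.mul_apply, map_sum]
    refine Finset.sum_congr rfl fun k _ => ?_
    simp only [Matrix.transpose_apply, Matrix.map_apply, map_mul, hσ, frob_frob hF]
    ring
  obtain ⟨t, ht⟩ := exists_norm_eq hF (c := c⁻¹) (by rw [map_inv₀]; exact congrArg _ hcσ)
  have ht0 : t ≠ 0 := fun e => inv_ne_zero hc0 (by rw [← ht, e, zero_mul])
  set z : GL (Fin 5) F := Units.map (Matrix.scalar (Fin 5) : F →+* M5).toMonoidHom (Units.mk0 t ht0) with hz
  have ez : (z : M5) = t • (1 : M5) := by simp [hz, Matrix.smul_one_eq_diagonal]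
  refine ⟨g * z, ω, x, y, h, ex, ey, (mem_GU_iff hF _).2 ?_, ?_⟩
  · rw [Units.val_mul, ez, Matrix.mul_smul, Matrix.mul_one, Matrix.transpose_smul,
      Matrix.map_smul' σ _ _ (map_mul σ), Matrix.smul_mul, Matrix.mul_smul, smul_smul, ← hG, hGc, smul_smul]
    rw [show t * σ t = c⁻¹ from ht, inv_mul_cancel₀ hc0, one_smul]
  · rw [hR]
    congr 1
    refine MonoidHom.ext fun a => ?_
    show g * a * g⁻¹ = g * z * a * (g * z)⁻¹
    have hza : z * a = a * z := Units.ext (by rw [Units.val_mul, Units.val_mul, ez]; simp)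
    rw [mul_assoc g z a, hza]
    group

end CfsgLib.MaxSub.HeisFiveU
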