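/-
Normalisers of groups of symplectic type of order 125 are maximal in SU(5, q), q odd.
-/
import Cfsg.Agent.Lib.MaxSub.HeisFiveU.Plane
import Cfsg.Agent.Lib.MaxSub.HeisFiveU.Std
import Cfsg.Agent.Lib.MaxSub.HeisFive.Main

set_option autoImplicit false
set_option linter.unusedSectionVars false
set_option linter.style.haveILetI false
set_option maxHeartbeats 800000

namespace CfsgLib.MaxSub.HeisFiveU

open Matrix Cfsg Cfsg.Geo CfsgLib.UnitaryTransvection
open CfsgLib.MaxSub.HeisFive (Root Xm Ym Wm Fm Over std_comm_X)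

variable {F : Type*} [Field F] [Fintype F] {q : ℕ}

local notation "M5" => Matrix (Fin 5) (Fin 5) F
local notation "G" => Cfsg.GU 5 F q ⊓ specialLinear (Fin 5) F

/-- The standard normaliser is maximal as soon as proper overgroups isolate the involution. -/
theorem std_maximal_of (hF : Fintype.card F = q ^ 2) (hq : q % 5 = 4) {ω : F} (h : Root ω)
    (hiso : ∀ M : Subgroup (GL (Fin 5) F), Over ω M → M ≤ G → ¬ G ≤ M → ∀ g ∈ M,
      HeisFive.Jg * (g * HeisFive.Jg * g⁻¹) = g * HeisFive.Jg * g⁻¹ * HeisFive.Jg →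
      g * HeisFive.Jg * g⁻¹ = HeisFive.Jg)
    {x y : GL (Fin 5) F} (ex : (x : M5) = Xm ω) (ey : (y : M5) = Ym) :
    IsMaximalIn G (subgroupNormalizer (Subgroup.closure {x, y}) ⊓ G) := by
  classical
  set R := Subgroup.closure ({x, y} : Set (GL (Fin 5) F)) with hR
  have hxR : x ∈ R := Subgroup.subset_closure (Set.mem_insert _ _)
  have hyR : y ∈ R := Subgroup.subset_closure (Set.mem_insert_of_mem _ rfl)
  have hdet : ∀ g : GL (Fin 5) F, (g : M5).det = 1 ↔ g ∈ specialLinear (Fin 5) F := fun g => by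
    rw [Cfsg.Geo.specialLinear, MonoidHom.mem_ker, ← Matrix.GeneralLinearGroup.val_det_apply, Units.val_eq_one]
  have hmemG : ∀ g : GL (Fin 5) F, (g : M5).transpose * (g : M5).map (frob hF) = 1 → (g : M5).det = 1 → g ∈ G :=
    fun g h1 h2 => ⟨(mem_GU_iff hF g).2 h1, (hdet g).1 h2⟩
  have hnorm : ∀ g : GL (Fin 5) F, g * x * g⁻¹ ∈ R → g * y * g⁻¹ ∈ R → g ∈ subgroupNormalizer R := by
    intro g hgx hgy
    have hle : R.map (MulAut.conj g).toMonoidHom ≤ R := by
      rw [Subgroup.map_le_iff_le_comap, hR, Subgroup.closure_le]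
      rintro _ (rfl | rfl)
      · exact hgx
      · exact hgy
    have heq : R.map (MulAut.conj g).toMonoidHom = R := Subgroup.eq_of_le_of_card_ge hle
      (by rw [Subgroup.card_map_of_injective (MulAut.conj g).injective])
    show g ∈ Subgroup.normalizer (R : Set (GL (Fin 5) F))
    rw [Subgroup.mem_normalizer_iff]
    refine fun r => ⟨fun hr => heq ▸ ⟨r, hr, rfl⟩, fun hr => ?_⟩
    rw [← heq] at hr
    obtain ⟨s, hs, hse⟩ := hr
    have : s = r := (MulAut.conj g).injective hse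
    exact this ▸ hs
  have hRN : ∀ r ∈ R, r ∈ subgroupNormalizer R := fun r hr =>
    hnorm r (mul_mem (mul_mem hr hxR) (inv_mem hr)) (mul_mem (mul_mem hr hyR) (inv_mem hr))
  have hxN : x ∈ subgroupNormalizer R ⊓ G :=
    ⟨hRN x hxR, hmemG x (by rw [ex]; exact gram_Xm hF hq h) (by rw [ex]; exact HeisFive.det_Xm h)⟩
  have hyN : y ∈ subgroupNormalizer R ⊓ G :=
    ⟨hRN y hyR, hmemG y (by rw [ey]; exact gram_Ym hF hq h) (by rw [ey]; exact HeisFive.det_Ym h)⟩
  set z : GL (Fin 5) F := x * y * x⁻¹ * y⁻¹ with hz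
  have hzR : z ∈ R := mul_mem (mul_mem (mul_mem hxR hyR) (inv_mem hxR)) (inv_mem hyR)
  have ez : (z : M5) = ω • 1 := by
    rw [hz, Units.val_mul, Units.val_mul, Units.val_mul, ex, ey, HeisFive.Xm_Ym h, ← ex, ← ey, Matrix.smul_mul,
      Matrix.smul_mul, Matrix.mul_assoc (y : M5), Units.mul_inv, Matrix.mul_one, Units.mul_inv]
  obtain ⟨w, ew⟩ : ∃ w : GL (Fin 5) F, (w : M5) = Wm ω :=
    ⟨((Matrix.isUnit_iff_isUnit_det _).2 (by rw [HeisFive.det_Wm h]; exact isUnit_one)).unit, IsUnit.unit_spec _⟩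
  obtain ⟨f, ef⟩ : ∃ f : GL (Fin 5) F, (f : M5) = Fm ω :=
    ⟨((Matrix.isUnit_iff_isUnit_det _).2 (by rw [HeisFive.det_Fm h]; exact isUnit_one)).unit, IsUnit.unit_spec _⟩
  have hwN : w ∈ subgroupNormalizer R ⊓ G := by
    refine ⟨hnorm w ?_ ?_, hmemG w (by rw [ew]; exact gram_Wm hF hq h) (by rw [ew]; exact HeisFive.det_Wm h)⟩
    · have e : w * x * w⁻¹ = x := by
        rw [mul_inv_eq_iff_eq_mul]
        exact Units.ext (by rw [Units.val_mul, Units.val_mul, ew, ex, HeisFive.Wm_Xm h])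
      rw [e]; exact hxR
    · have e : w * y * w⁻¹ = z * (y * x * x) := by
        rw [mul_inv_eq_iff_eq_mul]
        refine Units.ext ?_
        simp only [Units.val_mul, ez, ew, ex, ey, Matrix.smul_mul, Matrix.one_mul]
        exact HeisFive.Wm_Ym h
      rw [e]; exact mul_mem hzR (mul_mem (mul_mem hyR hxR) hxR)
  have hfN : f ∈ subgroupNormalizer R ⊓ G := by
    refine ⟨hnorm f ?_ ?_, hmemG f (by rw [ef]; exact gram_Fm hF hq h) (by rw [ef]; exact HeisFive.det_Fm h)⟩
    · have e : f * x * f⁻¹ = y⁻¹ := by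
        rw [mul_inv_eq_iff_eq_mul, eq_inv_mul_iff_mul_eq, ← mul_assoc]
        exact Units.ext (by rw [Units.val_mul, Units.val_mul, ef, ex, ey, HeisFive.Fm_Ym h])
      rw [e]; exact inv_mem hyR
    · have e : f * y * f⁻¹ = x := by
        rw [mul_inv_eq_iff_eq_mul]
        exact Units.ext (by rw [Units.val_mul, Units.val_mul, ef, ex, ey, HeisFive.Fm_Xm h])
      rw [e]; exact hxR
  refine ⟨lt_of_le_of_ne inf_le_right fun e => ?_, fun M hM hMS => ?_⟩
  · -- a signed transposition does not normalise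
    set Tm : M5 := diagonal ![-1, 1, 1, 1, 1] * (Equiv.swap (1 : Fin 5) 2).permMatrix F with hTm
    have hd : Tm.det = 1 := by
      rw [hTm, det_mul, det_diagonal, Matrix.det_permutation, Equiv.Perm.sign_swap (by decide)]
      simp [Fin.prod_univ_five]
    have hg : Tm.transpose * Tm.map (frob hF) = 1 := by
      refine gram_mul hF ?_ ?_
      · rw [diagonal_transpose, diagonal_map (map_zero _), diagonal_mul_diagonal, ← diagonal_one]
        refine congrArg diagonal (funext fun i => ?_)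
        fin_cases i <;> simp
      · ext i j
        fin_cases i <;> fin_cases j <;>
          simp [Matrix.mul_apply, Fin.sum_univ_five, Equiv.Perm.permMatrix, PEquiv.toMatrix_apply, Equiv.swap_apply_def]
    have hTT : Tm * Tm = 1 := by
      rw [hTm]
      ext i j
      fin_cases i <;> fin_cases j <;>
        simp [Matrix.mul_apply, Fin.sum_univ_five, Equiv.Perm.permMatrix, PEquiv.toMatrix_apply, Equiv.swap_apply_def]
    let T : GL (Fin 5) F := ⟨Tm, Tm, hTT, hTT⟩
    have hT : T ∈ subgroupNormalizer R := (inf_le_left : _ ≤ subgroupNormalizer R) (by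
      rw [e]; exact hmemG T hg hd)
    obtain ⟨c, -, hc⟩ := std_comm_X h ex ey ((Subgroup.mem_normalizer_iff.1 hT y).1 hyR)
    rw [Units.val_mul, Units.val_mul, ey] at hc
    have e10 := congrFun (congrFun hc 2) 0
    have e21 := congrFun (congrFun hc 1) 2
    rw [show ((T : GL (Fin 5) F) : M5) = Tm from rfl, show ((T⁻¹ : GL (Fin 5) F) : M5) = Tm from rfl] at e10 e21
    simp [hTm, Xm, Ym, Matrix.mul_apply, Fin.sum_univ_five, Matrix.diagonal, Equiv.Perm.permMatrix,
      PEquiv.toMatrix_apply, Equiv.swap_apply_def] at e10 e21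
    rw [← e10] at e21
    exact absurd (h.pow_inj (a := 4) (b := 1) (by rw [pow_one]; linear_combination -e21)) (by norm_num)
  · by_cases hfull : G ≤ M
    · exact Or.inr (le_antisymm hMS hfull)
    · left
      have O : Over ω M := ⟨h, fun g hg => (hdet g).2 (hMS hg).2, ⟨x, hM hxN, ex⟩, ⟨y, hM hyN, ey⟩,
        ⟨w, hM hwN, ew⟩, ⟨f, hM hfN, ef⟩⟩
      have hnor := HeisFive.normalises_of_isolated O
        (hiso M O hMS hfull) ex ey
      exact le_antisymm (fun g hg => ⟨hnorm g (hnor g hg x hxR) (hnor g hg y hyR), hMS hg⟩) hM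

/-- The standard normaliser is maximal in the special unitary group. -/
theorem std_maximal [NeZero (2 : F)] (hF : Fintype.card F = q ^ 2) {p : ℕ} [Fact p.Prime] [CharP F p] (h3 : 3 ≤ p)
    (hq : q % 5 = 4) (hp : q = p ∨ (q = p ^ 2 ∧ ¬ 5 ∣ p * (p ^ 2 - 1))) {ω : F} (h : Root ω)
    {x y : GL (Fin 5) F} (ex : (x : M5) = Xm ω) (ey : (y : M5) = Ym) :
    IsMaximalIn G (subgroupNormalizer (Subgroup.closure {x, y}) ⊓ G) :=
  std_maximal_of hF hq h (fun _ O hMS hfull _ hg hc => involution_isolated hF O hMS h3 hq hp hfull hg hc) ex ey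

/-- Maximality is invariant under conjugation by unitary matrices. -/
theorem maximal_conj {g : GL (Fin 5) F} (hg : g ∈ GU 5 F q) {x y : GL (Fin 5) F}
    (hstd : IsMaximalIn G (subgroupNormalizer (Subgroup.closure {x, y}) ⊓ G)) :
    IsMaximalIn G (subgroupNormalizer ((Subgroup.closure {x, y}).map (MulAut.conj g).toMonoidHom) ⊓ G) := by
  classical
  obtain ⟨hlt, hmax⟩ := hstd
  set R0 := Subgroup.closure ({x, y} : Set (GL (Fin 5) F))
  set S := G
  set N0 := subgroupNormalizer R0 ⊓ S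
  set φ : GL (Fin 5) F ≃* GL (Fin 5) F := MulAut.conj g
  haveI : (specialLinear (Fin 5) F).Normal := MonoidHom.normal_ker _
  have hconj : ∀ a ∈ GU 5 F q, ∀ s ∈ S, a * s * a⁻¹ ∈ S := fun a ha s hs =>
    ⟨(GU 5 F q).mul_mem ((GU 5 F q).mul_mem ha hs.1) ((GU 5 F q).inv_mem ha), Subgroup.Normal.conj_mem inferInstance s hs.2 a⟩
  have hS : S.map φ.toMonoidHom = S := by
    ext s
    rw [Subgroup.mem_map_equiv]
    constructor
    · intro hs
      have := hconj g hg _ hs
      rwa [show g * φ.symm s * g⁻¹ = s from φ.apply_symm_apply s] at this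
    · intro hs
      have := hconj g⁻¹ (inv_mem hg) _ hs
      rwa [show g⁻¹ * s * g⁻¹⁻¹ = φ.symm s by rw [inv_inv]; rfl] at this
  have hN : subgroupNormalizer (R0.map φ.toMonoidHom) ⊓ S = N0.map φ.toMonoidHom := by
    rw [Subgroup.map_inf _ _ _ φ.injective, hS, Cfsg.Geo.subgroupNormalizer, Cfsg.Geo.subgroupNormalizer,
      Subgroup.map_equiv_normalizer_eq R0 φ]
  rw [hN]
  have hinj := Subgroup.map_injective (f := φ.toMonoidHom) φ.injective
  refine ⟨lt_of_le_of_ne (hS ▸ Subgroup.map_mono hlt.le) fun e => hlt.ne (hinj (e.trans hS.symm)), fun M hM hMS => ?_⟩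
  have hsur : (M.comap φ.toMonoidHom).map φ.toMonoidHom = M :=
    Subgroup.map_comap_eq_self_of_surjective φ.surjective M
  rcases hmax (M.comap φ.toMonoidHom) (Subgroup.map_le_iff_le_comap.1 hM)
    (fun m hm => by
      obtain ⟨s, hs, hse⟩ := (hS.symm ▸ hMS hm : φ m ∈ S.map φ.toMonoidHom)
      exact φ.injective hse ▸ hs) with e | e
  · left; rw [← hsur, e]
  · right; rw [← hsur, e, hS]

/-- Item (7) for odd characteristic. -/
theorem su_symplectic_five_maximal_odd (hF : Fintype.card F = q ^ 2) (p : ℕ)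
    (R : Subgroup (Matrix.GeneralLinearGroup (Fin 5) F)) (hpp : p.Prime) (hchar : CharP F p) (h2p : p ≠ 2)
    (hq' : (q = p ∧ p % 5 = 4) ∨ (q = p ^ 2 ∧ (p % 5 = 2 ∨ p % 5 = 3)))
    (hsym : Cfsg.Geo.IsSymplecticTypeGroup 5 R)
    (habs : Cfsg.Geo.ActsAbsolutelyIrreducibly (Cfsg.Geo.matrixSet R))
    (hRs : R ≤ Cfsg.Geo.similarityGroup (Cfsg.hermForm 5 F q)) (h125 : Nat.card R = 125)
    (hZ : Nat.card (Subgroup.center R) = 5) :
    IsMaximalIn G (subgroupNormalizer R ⊓ G) := by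
  classical
  haveI : Fact p.Prime := ⟨hpp⟩
  have h3 : 3 ≤ p := by have := hpp.two_le; omega
  have hq : q % 5 = 4 := by
    rcases hq' with ⟨rfl, e⟩ | ⟨rfl, e⟩
    · exact e
    · rw [Nat.pow_mod]; rcases e with e | e <;> rw [e]
  have hp : q = p ∨ (q = p ^ 2 ∧ ¬ 5 ∣ p * (p ^ 2 - 1)) := by
    rcases hq' with ⟨e, -⟩ | ⟨e, e5⟩
    · exact Or.inl e
    · refine Or.inr ⟨e, fun hd => ?_⟩
      rcases (Nat.Prime.dvd_mul Nat.prime_five).1 hd with hd | hd
      · omega
      · have : p ^ 2 % 5 = 4 := e ▸ hq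
        omega
  have hne : ∀ k : ℕ, 0 < k → k % p ≠ 0 → (k : F) ≠ 0 := fun k _ hk e =>
    hk (Nat.mod_eq_zero_of_dvd ((CharP.cast_eq_zero_iff F p k).1 e))
  have h5 : (5 : F) ≠ 0 := by
    have := hne 5 (by norm_num) (fun e => by
      have hd := Nat.dvd_of_mod_eq_zero e
      have := (Nat.prime_dvd_prime_iff_eq hpp Nat.prime_five).1 hd
      omega)
    exact_mod_cast this
  have h2 : (2 : F) ≠ 0 := by
    have := hne 2 (by norm_num) (fun e => by
      have hd := Nat.dvd_of_mod_eq_zero e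
      exact h2p ((Nat.prime_dvd_prime_iff_eq hpp Nat.prime_two).1 hd))
    exact_mod_cast this
  haveI : NeZero (2 : F) := ⟨h2⟩
  obtain ⟨g, ω, x, y, h, ex, ey, hg, rfl⟩ := exists_std_unitary hF hq h5 hsym habs hRs h125 hZ
  exact maximal_conj hg (std_maximal hF h3 hq hp h ex ey)

end CfsgLib.MaxSub.HeisFiveU
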